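import Mathlib.LinearAlgebra.Matrix.NonsingularInverse
import Mathlib.RingTheory.Ideal.Operations
import Mathlib.RingTheory.Finiteness.Ideal

/-!
# G1, node P1: a matrix is right invertible iff its maximal minors generate the unit ideal

* `det_mul_eq_sum` : Cauchy - Binet in the form `det (M S) = ∑ I, det (M_I) * ∏ i, S (I i) i`.
* `exists_mul_eq_one_iff` : `(∃ S, M * S = 1) ↔ (maximal minors) = ⊤`.
* `exists_mul_eq_one_iff₂` : the same for a pair of matrices and the products of minors.
* `span_det_map`, `span_det_mul_map` : compatibility with ring maps.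
-/

set_option autoImplicit false

namespace Groth.Agent.ResProp.EF.K249

open Matrix

section One

variable {T : Type*} [CommRing T] {r : ℕ} {ι : Type*} [Fintype ι]

theorem det_mul_eq_sum (M : Matrix (Fin r) ι T) (S : Matrix ι (Fin r) T) :
    (M * S).det = ∑ I : Fin r → ι, (M.submatrix id I).det * ∏ i, S (I i) i := by
  classical
  simp only [Matrix.det_apply', Matrix.mul_apply, Matrix.submatrix_apply, id]
  simp_rw [Finset.prod_univ_sum, Fintype.piFinset_univ, Finset.mul_sum, Finset.sum_mul]
  rw [Finset.sum_comm]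
  refine Finset.sum_congr rfl fun I _ => Finset.sum_congr rfl fun σ _ => ?_
  rw [Finset.prod_mul_distrib, mul_assoc]

/-- the minor `I` is hit by an explicit matrix -/
theorem mul_adjugate_eq [DecidableEq ι] (M : Matrix (Fin r) ι T) (I : Fin r → ι) :
    M * ((Matrix.of fun (j : ι) (i : Fin r) => if j = I i then (1 : T) else 0) * (M.submatrix id I).adjugate) =
      (M.submatrix id I).det • (1 : Matrix (Fin r) (Fin r) T) := by
  rw [← Matrix.mul_assoc]
  have : M * (Matrix.of fun (j : ι) (i : Fin r) => if j = I i then (1 : T) else 0) = M.submatrix id I := by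
    ext a i
    simp [Matrix.mul_apply]
  rw [this, Matrix.mul_adjugate]

theorem exists_mul_eq_one_iff (M : Matrix (Fin r) ι T) :
    (∃ S : Matrix ι (Fin r) T, M * S = 1) ↔
      Ideal.span (Set.range fun I : Fin r → ι => (M.submatrix id I).det) = ⊤ := by
  classical
  rw [Ideal.eq_top_iff_one]
  constructor
  · rintro ⟨S, hS⟩
    have h := det_mul_eq_sum M S
    rw [hS, Matrix.det_one] at h
    rw [h]
    exact Submodule.sum_mem _ fun I _ => Ideal.mul_mem_right _ _ (Ideal.subset_span ⟨I, rfl⟩)
  · intro h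
    obtain ⟨c, hc⟩ := (Ideal.mem_span_range_iff_exists_fun).1 h
    refine ⟨∑ I, c I • ((Matrix.of fun (j : ι) (i : Fin r) => if j = I i then (1 : T) else 0) *
      (M.submatrix id I).adjugate), ?_⟩
    rw [Matrix.mul_sum]
    simp_rw [Matrix.mul_smul, mul_adjugate_eq, smul_smul]
    rw [← Finset.sum_smul, hc, one_smul]

omit [Fintype ι] in
theorem span_det_map {T' : Type*} [CommRing T'] (f : T →+* T') (M : Matrix (Fin r) ι T) :
    Ideal.span (Set.range fun I : Fin r → ι => ((M.map f).submatrix id I).det) =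
      (Ideal.span (Set.range fun I : Fin r → ι => (M.submatrix id I).det)).map f := by
  rw [Ideal.map_span, ← Set.range_comp]
  congr 2
  funext I
  simp only [Function.comp]
  rw [RingHom.map_det]
  rfl

end One

section Two

variable {T : Type*} [CommRing T] {r r' : ℕ} {ι κ : Type*} [Fintype ι] [Fintype κ]

omit [Fintype ι] [Fintype κ] in
theorem span_mul_eq (M : Matrix (Fin r) ι T) (N : Matrix (Fin r') κ T) :
    Ideal.span (Set.range fun p : (Fin r → ι) × (Fin r' → κ) =>
        (M.submatrix id p.1).det * (N.submatrix id p.2).det) =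
      Ideal.span (Set.range fun I : Fin r → ι => (M.submatrix id I).det) *
        Ideal.span (Set.range fun J : Fin r' → κ => (N.submatrix id J).det) := by
  rw [Ideal.span_mul_span']
  congr 1
  ext z
  simp only [Set.mem_range, Set.mem_mul, Prod.exists]
  constructor
  · rintro ⟨I, J, rfl⟩
    exact ⟨_, ⟨I, rfl⟩, _, ⟨J, rfl⟩, rfl⟩
  · rintro ⟨_, ⟨I, rfl⟩, _, ⟨J, rfl⟩, rfl⟩
    exact ⟨I, J, rfl⟩

theorem exists_mul_eq_one_iff₂ (M : Matrix (Fin r) ι T) (N : Matrix (Fin r') κ T) :
    ((∃ S : Matrix ι (Fin r) T, M * S = 1) ∧ (∃ S : Matrix κ (Fin r') T, N * S = 1)) ↔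
      Ideal.span (Set.range fun p : (Fin r → ι) × (Fin r' → κ) =>
        (M.submatrix id p.1).det * (N.submatrix id p.2).det) = ⊤ := by
  rw [exists_mul_eq_one_iff, exists_mul_eq_one_iff, span_mul_eq]
  constructor
  · rintro ⟨h1, h2⟩
    rw [h1, h2, Ideal.mul_top]
  · intro h
    exact ⟨top_le_iff.1 (h.ge.trans Ideal.mul_le_left), top_le_iff.1 (h.ge.trans Ideal.mul_le_right)⟩

/-- form with a ring map: the conditions of `FrRing` -/
theorem exists_mul_eq_one_iff_map {T' : Type*} [CommRing T'] (f : T →+* T') (M : Matrix (Fin r) ι T)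
    (N : Matrix (Fin r') κ T) :
    ((∃ S : Matrix ι (Fin r) T', M.map f * S = 1) ∧ (∃ S : Matrix κ (Fin r') T', N.map f * S = 1)) ↔
      (Ideal.span (Set.range fun p : (Fin r → ι) × (Fin r' → κ) =>
        (M.submatrix id p.1).det * (N.submatrix id p.2).det)).map f = ⊤ := by
  rw [exists_mul_eq_one_iff, exists_mul_eq_one_iff, span_det_map, span_det_map, span_mul_eq, Ideal.map_mul]
  constructor
  · rintro ⟨h1, h2⟩
    rw [h1, h2, Ideal.mul_top]
  · intro h
    exact ⟨top_le_iff.1 (h.ge.trans Ideal.mul_le_left), top_le_iff.1 (h.ge.trans Ideal.mul_le_right)⟩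

end Two

end Groth.Agent.ResProp.EF.K249
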